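import Mathlib

/-!
# Permutation lemmas for derangements of prime order in almost simple alternating groups
-/

set_option autoImplicit false

namespace Cfsg.Agent.AltDerange

open MulAction Equiv

variable {m : ℕ}

/-- A transitive group containing a long cycle of prime length is primitive. -/
theorem isPreprimitive_of_long_cycle (K : Subgroup (Perm (Fin m))) [IsPretransitive K (Fin m)]
    {c : Perm (Fin m)} (hc : c ∈ K) (hcyc : c.IsCycle) (hp : c.support.card.Prime)
    (hbig : m < 2 * c.support.card) : IsPreprimitive K (Fin m) := by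
  classical
  let S : SubMulAction (Subgroup.zpowers c) (Fin m) :=
    { carrier := {x | x ∈ c.support}
      smul_mem' := fun g x hx => by
        obtain ⟨n, hn⟩ := Subgroup.mem_zpowers_iff.1 g.2
        show g • x ∈ c.support
        rw [Subgroup.smul_def, Perm.smul_def, ← hn]
        exact Perm.zpow_apply_mem_support.2 hx }
  haveI : IsPretransitive (Subgroup.zpowers c) S := ⟨fun x y => by
    obtain ⟨n, hn⟩ := hcyc.sameCycle (Perm.mem_support.1 x.2) (Perm.mem_support.1 y.2)
    exact ⟨⟨c ^ n, Subgroup.zpow_mem_zpowers c n⟩, Subtype.ext hn⟩⟩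
  have hcard : Nat.card S = c.support.card := by
    show Nat.card {x // x ∈ c.support} = _
    rw [Nat.card_eq_fintype_card, Fintype.card_coe]
  haveI : IsPreprimitive (Subgroup.zpowers c) S := IsPreprimitive.of_prime_card (by rwa [hcard])
  let f : S →ₑ[fun g : Subgroup.zpowers c => (⟨g.1, Subgroup.zpowers_le.2 hc g.2⟩ : K)] Fin m :=
    { toFun := Subtype.val
      map_smul' := fun _ _ => rfl }
  refine IsPreprimitive.of_card_lt (f := f) ?_
  have : (Set.range f).ncard = c.support.card := by
    rw [show Set.range f = ↑c.support from Set.ext fun x =>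
      ⟨fun ⟨y, hy⟩ => hy ▸ y.2, fun hx => ⟨⟨x, hx⟩, rfl⟩⟩, Set.ncard_coe_finset]
  rw [this, Nat.card_fin]
  exact hbig

theorem sign_eq_one_of_odd {σ : Perm (Fin m)} (h : Odd (orderOf σ)) : Perm.sign σ = 1 := by
  rcases Int.units_eq_one_or (Perm.sign σ) with e | e
  · exact e
  · have h1 : Perm.sign σ ^ orderOf σ = 1 := by rw [← map_pow, pow_orderOf_eq_one, map_one]
    rw [e, h.neg_one_pow] at h1
    exact absurd h1 (by decide)

/-- An involution moving a multiple of four points is even. -/
theorem sign_eq_one_of_two {σ : Perm (Fin m)} (h : orderOf σ = 2) (h4 : 4 ∣ σ.support.card) :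
    Perm.sign σ = 1 := by
  obtain ⟨n, hn⟩ := Perm.cycleType_prime_order (σ := σ) (by rw [h]; exact Nat.prime_two)
  have hs := σ.sum_cycleType
  rw [hn, h, Multiset.sum_replicate, smul_eq_mul] at hs
  rw [Perm.sign_of_cycleType, hn, h, Multiset.sum_replicate, Multiset.card_replicate, smul_eq_mul]
  exact Even.neg_one_pow (Nat.even_iff.2 (by omega))

theorem isCycle_of_support_eq_prime {σ : Perm (Fin m)} {p : ℕ} (hp : p.Prime) (ho : orderOf σ = p)
    (hs : σ.support.card = p) : σ.IsCycle :=
  Perm.isCycle_of_prime_order (by rw [ho]; exact hp) (by rw [ho, hs]; have := hp.pos; omega)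

/-- Some even permutation carries a set of at least two points to any set of the same size. -/
theorem exists_even_image_eq {A B : Finset (Fin m)} (hA : 2 ≤ A.card) (h : A.card = B.card) :
    ∃ σ : Perm (Fin m), Perm.sign σ = 1 ∧ A.image σ = B := by
  let e : {x // x ∈ A} ≃ {x // x ∈ B} := Finset.equivOfCardEq h
  have himg : A.image e.extendSubtype = B :=
    Finset.eq_of_subset_of_card_le
      (fun y hy => by
        obtain ⟨x, hx, rfl⟩ := Finset.mem_image.1 hy
        exact e.extendSubtype_mem x hx)
      (by rw [Finset.card_image_of_injective _ e.extendSubtype.injective, h])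
  rcases Int.units_eq_one_or (Perm.sign e.extendSubtype) with hs | hs
  · exact ⟨_, hs, himg⟩
  · obtain ⟨a, ha, b, hb, hab⟩ := Finset.one_lt_card.1 hA
    refine ⟨e.extendSubtype * swap a b, ?_, ?_⟩
    · rw [map_mul, hs, Perm.sign_swap hab]; decide
    · rw [Perm.coe_mul, ← Finset.image_image]
      suffices A.image (swap a b) = A by rw [this, himg]
      refine Finset.eq_of_subset_of_card_le (fun y hy => ?_)
        (by rw [Finset.card_image_of_injective _ (swap a b).injective])
      obtain ⟨x, hx, rfl⟩ := Finset.mem_image.1 hy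
      rw [swap_apply_def]
      split_ifs <;> assumption

/-- A prime dividing `C(m, k)` and exceeding `k` leaves a remainder below `k`. -/
theorem mod_lt_of_dvd_choose {m k r : ℕ} (hr : r.Prime) (hd : r ∣ m.choose k) : m % r < k := by
  have h : r ∣ m.descFactorial k := by
    rw [Nat.descFactorial_eq_factorial_mul_choose]; exact hd.mul_left _
  rw [Nat.descFactorial_eq_prod_range] at h
  obtain ⟨i, hi, hid⟩ := (hr.prime.dvd_finsetProd_iff _).1 h
  rw [Finset.mem_range] at hi
  rcases Nat.lt_or_ge i m with him | him
  · obtain ⟨t, ht⟩ := hid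
    rw [show m = i + r * t by omega, Nat.add_mul_mod_self_left]
    exact (Nat.mod_le _ _).trans_lt hi
  · exact (Nat.mod_le _ _).trans_lt (by omega)

theorem two_mul_le_of_sq_dvd_factorial {m r : ℕ} (hr : r.Prime) (h : r ^ 2 ∣ m.factorial) :
    2 * r ≤ m := by
  haveI : Fact r.Prime := ⟨hr⟩
  by_contra hlt
  have h1 : 2 ≤ padicValNat r m.factorial :=
    (padicValNat_dvd_iff_le m.factorial_ne_zero).1 h
  rcases Nat.lt_or_ge m r with hm | hm
  · rw [padicValNat.eq_zero_of_not_dvd (fun hd => absurd (hr.dvd_factorial.1 hd) (by omega))] at h1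
    omega
  · rw [show m = r * 1 + (m - r) by omega, padicValNat_factorial_mul_add 1 (by omega),
      padicValNat_factorial_mul] at h1
    simp at h1

end Cfsg.Agent.AltDerange
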