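import Mathlib
import Cfsg.Agent.Lib.AltDerange.PermTools
import Cfsg.Agent.Lib.NT.SylvesterSchur
import Cfsg.Agent.Lib.Perm.Jordan
import Cfsg.Agent.Lib.Perm.PrimeOrderPerm

/-!
# Derangements of largest prime order in primitive almost simple alternating groups
-/

set_option autoImplicit false

namespace Cfsg.Agent.AltDerange

open MulAction Equiv Cfsg.Agent.Perm.PrimeOrderPerm

variable {G Ω : Type*} [Group G] [MulAction G Ω]

theorem exists_derangement [Finite Ω] (T : Subgroup G) [T.Normal] [IsPretransitive T Ω]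
    [IsPreprimitive G Ω] (hΩ : 2 ≤ Nat.card Ω) {m : ℕ} (hm : 5 ≤ m) (ψ : T →* Perm (Fin m))
    (hψ : Function.Injective ψ) (hrange : ψ.range = alternatingGroup (Fin m))
    (hext : m ≠ 6 → ∃ φ : G →* Perm (Fin m), ∀ t : T, φ t = ψ t)
    {r : ℕ} (hr : r.Prime) (hrd : r ∣ Nat.card Ω)
    (hmax : ∀ s : ℕ, s.Prime → s ∣ Nat.card Ω → s ≤ r) :
    ∃ g : G, orderOf g = r ∧ ∀ ω : Ω, g • ω ≠ ω := by
  classical
  haveI : Finite T := Finite.of_injective ψ hψ
  haveI : Nontrivial Ω := Finite.one_lt_card_iff_nontrivial.1 (by omega)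
  haveI : Nontrivial (Fin m) := Fin.nontrivial_iff_two_le.2 (by omega)
  haveI := Fact.mk hr
  have hsign : ∀ t : T, Perm.sign (ψ t) = 1 := fun t =>
    Perm.mem_alternatingGroup.1 (hrange ▸ MonoidHom.mem_range.2 ⟨t, rfl⟩)
  have hlift : ∀ σ : Perm (Fin m), Perm.sign σ = 1 → ∃ t, ψ t = σ := fun σ hσ =>
    MonoidHom.mem_range.1 (hrange ▸ Perm.mem_alternatingGroup.2 hσ)
  let H0 : Ω → Subgroup (Perm (Fin m)) := fun ω => (stabilizer T ω).map ψ
  have hord : ∀ t : T, orderOf (ψ t) = orderOf t := orderOf_injective ψ hψ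
  -- an element of `T` with a fixed point has a conjugate in any stabilizer
  have hconj : ∀ (t : T) (ω ω₀ : Ω), t • ω = ω → ∃ ρ, ρ * ψ t * ρ⁻¹ ∈ H0 ω₀ := by
    intro t ω ω₀ h
    obtain ⟨s, hs⟩ := exists_smul_eq T ω₀ ω
    refine ⟨(ψ s)⁻¹, Subgroup.mem_map.2 ⟨s⁻¹ * t * s, ?_, by simp⟩⟩
    rw [mem_stabilizer_iff, mul_smul, mul_smul, hs, h, ← hs, inv_smul_smul]
  have hder : ∀ σ ω₀, Perm.sign σ = 1 → orderOf σ = r → (∀ ρ, ρ * σ * ρ⁻¹ ∉ H0 ω₀) →
      ∃ g : G, orderOf g = r ∧ ∀ ω : Ω, g • ω ≠ ω := by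
    intro σ ω₀ hσ ho hno
    obtain ⟨t, rfl⟩ := hlift σ hσ
    refine ⟨(t : G), by rw [Subgroup.orderOf_coe, ← hord, ho], fun ω hω => ?_⟩
    obtain ⟨ρ, hρ⟩ := hconj t ω ω₀ hω
    exact hno ρ hρ
  have hfix : ∀ q σ, q.Prime → ¬ q ∣ Nat.card Ω → Perm.sign σ = 1 → orderOf σ = q →
      ∀ ω₀, ∃ ρ, ρ * σ * ρ⁻¹ ∈ H0 ω₀ := by
    intro q σ hq hqn hσ ho ω₀
    obtain ⟨t, rfl⟩ := hlift σ hσ
    haveI := Fact.mk hq
    have hp : IsPGroup q (Subgroup.zpowers t) :=
      IsPGroup.of_card (n := 1) (by rw [Nat.card_zpowers, ← hord, ho, pow_one])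
    obtain ⟨ω, hω⟩ := hp.nonempty_fixed_point_of_prime_not_dvd_card Ω hqn
    exact hconj t ω ω₀ (hω ⟨t, Subgroup.mem_zpowers t⟩)
  have hcard : ∀ ω : Ω, Nat.card (stabilizer T ω) * Nat.card Ω = Nat.card T := fun ω => by
    rw [← index_stabilizer_of_transitive T ω, Subgroup.card_mul_index]
  have hne : ∀ ω, ¬ alternatingGroup (Fin m) ≤ H0 ω := by
    intro ω h
    obtain ⟨ω', hω'⟩ := exists_ne ω
    obtain ⟨s, hs⟩ := exists_smul_eq T ω ω'
    obtain ⟨s', hs', he⟩ := Subgroup.mem_map.1 (h (Perm.mem_alternatingGroup.2 (hsign s)))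
    rw [hψ he] at hs'
    exact hω' (hs ▸ hs')
  obtain ⟨ω₁⟩ : Nonempty Ω := inferInstance
  by_cases hrH : r ∣ Nat.card (stabilizer T ω₁)
  swap
  · obtain ⟨t, ht⟩ := exists_prime_orderOf_dvd_card' (G := T) r
      (hrd.trans ⟨_, ((mul_comm _ _).trans (hcard ω₁)).symm⟩)
    refine ⟨(t : G), by rw [Subgroup.orderOf_coe, ht], fun ω hω => hrH ?_⟩
    have h1 : r ∣ Nat.card (stabilizer T ω) := by
      rw [← ht, ← Subgroup.orderOf_mk (H := stabilizer T ω) t hω]
      exact orderOf_dvd_natCard _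
    rwa [Nat.eq_of_mul_eq_mul_right (by omega) ((hcard ω₁).trans (hcard ω).symm)]
  have hcardT : 2 * Nat.card T = m.factorial := by
    rw [← Nat.card_range_of_injective hψ, show Nat.card (Set.range ψ) = Nat.card ψ.range from rfl,
      hrange, two_mul_nat_card_alternatingGroup, Nat.card_perm, Nat.card_fin]
  have h2r : 2 * r ≤ m := by
    refine two_mul_le_of_sq_dvd_factorial hr ?_
    rw [← hcardT, ← hcard ω₁, sq]
    exact dvd_mul_of_dvd_right (Nat.mul_dvd_mul hrH hrd) _
  by_cases h63 : m = 6 ∧ r = 3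
  · obtain ⟨rfl, rfl⟩ := h63
    haveI : Finite (H0 ω₁) := Finite.of_fintype _
    have hH : Nat.card (H0 ω₁) = Nat.card (stabilizer T ω₁) :=
      Subgroup.card_map_of_injective hψ
    have h9 : ¬ 3 ^ 2 ∣ Nat.card (H0 ω₁) := by
      intro h
      have h' := (Nat.mul_dvd_mul h hrd).trans (dvd_mul_left _ 2)
      rw [hH, hcard ω₁, hcardT] at h'
      norm_num [Nat.factorial] at h'
    obtain ⟨a, ha⟩ := exists_prime_orderOf_dvd_card' (G := H0 ω₁) 3 (hH ▸ hrH)
    have hsame : ∀ x y : H0 ω₁, orderOf x = 3 → orderOf y = 3 →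
        (y : Perm (Fin 6)).support.card ≤ (x : Perm (Fin 6)).support.card := by
      intro x y hx hy
      obtain ⟨P, hP⟩ := (IsPGroup.of_card (p := 3) (n := 1)
        (by rw [Nat.card_zpowers, hx, pow_one] : Nat.card (Subgroup.zpowers x) = 3 ^ 1)).exists_le_sylow
      obtain ⟨Q, hQ⟩ := (IsPGroup.of_card (p := 3) (n := 1)
        (by rw [Nat.card_zpowers, hy, pow_one] : Nat.card (Subgroup.zpowers y) = 3 ^ 1)).exists_le_sylow
      obtain ⟨u, hu⟩ := MulAction.exists_smul_eq (H0 ω₁) Q P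
      have hP3 : Nat.card P ≤ 3 := by
        obtain ⟨n, hn⟩ := P.isPGroup'.exists_card_eq
        rw [hn]
        by_contra hlt
        have hn2 : 2 ≤ n := by
          by_contra hn2
          interval_cases n <;> simp_all
        exact h9 ((pow_dvd_pow 3 hn2).trans (hn ▸ Subgroup.card_subgroup_dvd_card _))
      have heq : Subgroup.zpowers x = P :=
        Subgroup.eq_of_le_of_card_ge hP (by rw [Nat.card_zpowers, hx]; exact hP3)
      have hmem : u * y * u⁻¹ ∈ Subgroup.zpowers x := by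
        rw [heq, ← hu]
        refine ⟨y, hQ (Subgroup.mem_zpowers y), ?_⟩
        simp
      obtain ⟨i, hi⟩ := Subgroup.mem_zpowers_iff.1 hmem
      have hi' := congrArg (fun z : H0 ω₁ => (z : Perm (Fin 6))) hi
      simp only [Subgroup.coe_zpow, Subgroup.coe_mul, Subgroup.coe_inv] at hi'
      calc (y : Perm (Fin 6)).support.card
          = ((u : Perm (Fin 6)) * y * (u : Perm (Fin 6))⁻¹).support.card :=
            (Perm.card_support_conj).symm
        _ ≤ _ := by rw [← hi']; exact Finset.card_le_card (Perm.support_zpow_le _ _)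
    obtain ⟨c, hc, hc'⟩ : ∃ c, (c = 1 ∨ c = 2) ∧ c * 3 ≠ (a : Perm (Fin 6)).support.card := by
      by_cases h : (a : Perm (Fin 6)).support.card = 3
      · exact ⟨2, Or.inr rfl, by omega⟩
      · exact ⟨1, Or.inl rfl, by omega⟩
    obtain ⟨σ, ho, hs⟩ := exists_orderOf_eq_support_card 6 c 3 hr (by omega) (by omega)
    refine hder σ ω₁ (sign_eq_one_of_odd (by rw [ho]; decide)) ho fun ρ hρ => hc' ?_
    have hτ : orderOf (⟨_, hρ⟩ : H0 ω₁) = 3 := by
      rw [Subgroup.orderOf_mk]; exact (orderOf_injective (MulAut.conj ρ).toMonoidHom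
        (MulAut.conj ρ).injective σ).trans ho
    have h1 := le_antisymm (hsame a ⟨_, hρ⟩ ha hτ) (hsame ⟨_, hρ⟩ a hτ ha)
    simp only [Perm.card_support_conj, hs] at h1
    exact h1
  -- a prime above `m / 2`, and a point fixed by a cycle of that length
  obtain ⟨p, hp, hp1, hp2⟩ := Nat.exists_prime_lt_and_le_two_mul (m / 2) (by omega)
  have hpm : p ≤ m := by omega
  have hpodd : Odd p := hp.odd_of_ne_two (by omega)
  obtain ⟨c₀, hc₀, hc₀s⟩ := exists_orderOf_eq_support_card m 1 p hp one_pos (by omega)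
  rw [one_mul] at hc₀s
  obtain ⟨ρ₀, hρ₀⟩ := hfix p c₀ hp (fun h => by have := hmax p hp h; omega)
    (sign_eq_one_of_odd (by rw [hc₀]; exact hpodd)) hc₀ ω₁
  set c := ρ₀ * c₀ * ρ₀⁻¹ with hc
  have hcs : c.support.card = p := by rw [hc, Perm.card_support_conj, hc₀s]
  have hco : orderOf c = p :=
    (orderOf_injective (MulAut.conj ρ₀).toMonoidHom (MulAut.conj ρ₀).injective c₀).trans hc₀
  have hcyc : c.IsCycle := isCycle_of_support_eq_prime hp hco hcs
  obtain ⟨x₀, hx₀⟩ : c.support.Nonempty := Finset.card_pos.1 (by rw [hcs]; exact hp.pos)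
  set O := Finset.univ.filter fun y => ∃ a ∈ H0 ω₁, a x₀ = y with hO
  have hOinv : ∀ a ∈ H0 ω₁, O.image a = O := by
    intro a ha
    refine Finset.eq_of_subset_of_card_le (fun y hy => ?_)
      (by rw [Finset.card_image_of_injective _ a.injective])
    obtain ⟨z, hz, rfl⟩ := Finset.mem_image.1 hy
    obtain ⟨b, hb, rfl⟩ := (Finset.mem_filter.1 hz).2
    exact Finset.mem_filter.2 ⟨Finset.mem_univ _, a * b, mul_mem ha hb, rfl⟩
  have hcO : c.support ⊆ O := by
    intro y hy
    obtain ⟨n, hn⟩ := hcyc.sameCycle (Perm.mem_support.1 hx₀) (Perm.mem_support.1 hy)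
    exact Finset.mem_filter.2 ⟨Finset.mem_univ _, c ^ n, zpow_mem hρ₀ n, hn⟩
  have hOp : p ≤ O.card := hcs ▸ Finset.card_le_card hcO
  by_cases hall : O = Finset.univ
  · -- primitive case
    haveI : IsPretransitive (H0 ω₁) (Fin m) := ⟨fun x y => by
      have hx : x ∈ O := hall ▸ Finset.mem_univ x
      have hy : y ∈ O := hall ▸ Finset.mem_univ y
      obtain ⟨a, ha, rfl⟩ := (Finset.mem_filter.1 hx).2
      obtain ⟨b, hb, rfl⟩ := (Finset.mem_filter.1 hy).2
      exact ⟨⟨b * a⁻¹, mul_mem hb (inv_mem ha)⟩, by simp [Subgroup.smul_def]⟩⟩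
    have hprimH : IsPreprimitive (H0 ω₁) (Fin m) :=
      isPreprimitive_of_long_cycle _ hρ₀ hcyc (by rw [hcs]; exact hp) (by rw [hcs]; omega)
    by_cases h2 : r = 2
    · exfalso
      have h3 : ¬ 3 ∣ Nat.card Ω := fun h => by have := hmax 3 Nat.prime_three h; omega
      obtain ⟨σ, ho, hs⟩ := exists_orderOf_eq_support_card m 1 3 Nat.prime_three one_pos (by omega)
      obtain ⟨ρ, hρ⟩ := hfix 3 σ Nat.prime_three h3 (sign_eq_one_of_odd (by rw [ho]; decide)) ho ω₁
      refine hne ω₁ (Perm.alternatingGroup_le_of_support_le_three _ hprimH hρ ?_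
        (by rw [Perm.card_support_conj, hs]))
      intro h
      have := Perm.card_support_conj (σ := ρ) (τ := σ)
      rw [h, Perm.support_one, Finset.card_empty, hs] at this
      omega
    · obtain ⟨σ, ho, hs⟩ := exists_orderOf_eq_support_card m 1 r hr one_pos (by omega)
      refine hder σ ω₁ (sign_eq_one_of_odd (by rw [ho]; exact hr.odd_of_ne_two h2)) ho
        fun ρ hρ => hne ω₁ ?_
      have hs' : (ρ * σ * ρ⁻¹).support.card = r := by rw [Perm.card_support_conj, hs, one_mul]
      exact Perm.alternatingGroup_le_of_prime_cycle _ hprimH hr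
        (by rw [Fintype.card_fin]; have := hr.two_le; omega)
        (isCycle_of_support_eq_prime hr
          ((orderOf_injective (MulAut.conj ρ).toMonoidHom (MulAut.conj ρ).injective σ).trans ho) hs')
        hs' hρ
  -- intransitive case
  have hOm : O.card < m := by
    have h := Finset.card_lt_univ_of_notMem (s := O) (x := (Classical.not_forall.1
      fun h => hall (Finset.eq_univ_iff_forall.2 h)).choose)
      (Classical.not_forall.1 fun h => hall (Finset.eq_univ_iff_forall.2 h)).choose_spec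
    rwa [Fintype.card_fin] at h
  have hcompl : ∀ τ : Perm (Fin m), O.image τ = O → Oᶜ.image τ = Oᶜ := by
    intro τ hτ
    rw [Finset.compl_eq_univ_sdiff, Finset.image_sdiff _ _ τ.injective, hτ,
      Finset.image_univ_of_surjective τ.surjective]
  by_cases h6 : m = 6
  · exfalso
    subst h6
    have hr2 : r = 2 := by
      have := hr.two_le
      have : r ≠ 3 := fun h => h63 ⟨rfl, h⟩
      omega
    have hp5 : p = 5 := by
      rcases Nat.lt_or_ge p 5 with h | h
      · interval_cases p; norm_num at hp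
      · omega
    haveI : Fact (Nat.Prime 3) := ⟨Nat.prime_three⟩
    obtain ⟨σ, ho, hs⟩ := exists_orderOf_eq_support_card 6 2 3 Nat.prime_three two_pos le_rfl
    obtain ⟨ρ, hρ⟩ := hfix 3 σ Nat.prime_three (fun h => by have := hmax 3 Nat.prime_three h; omega)
      (sign_eq_one_of_odd (by rw [ho]; decide)) ho ω₁
    have hτ : (ρ * σ * ρ⁻¹) ^ 3 = 1 := by rw [conj_pow, ← ho, pow_orderOf_eq_one]; simp
    have hu : (ρ * σ * ρ⁻¹).support = Finset.univ :=
      Finset.eq_univ_of_card _ (by rw [Perm.card_support_conj, hs, Fintype.card_fin])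
    have h := card_modEq_filter_fixed hτ (hOinv _ hρ)
    rw [Finset.filter_false_of_mem (fun x _ => Perm.mem_support.1 (hu ▸ Finset.mem_univ x)),
      Finset.card_empty, show O.card = 5 by omega] at h
    exact absurd h (by decide)
  obtain ⟨φ, hφ⟩ := hext h6
  set H := stabilizer G ω₁ with hH
  let S : Subgroup G :=
    { carrier := {g | O.image (φ g) = O}
      one_mem' := by simp
      mul_mem' := fun {g h} (hg : O.image (φ g) = O) (hh : O.image (φ h) = O) => by
        show O.image (φ (g * h)) = O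
        rw [map_mul, Perm.coe_mul, ← Finset.image_image, hh, hg]
      inv_mem' := fun {g} (hg : O.image (φ g) = O) => by
        show O.image (φ g⁻¹) = O
        conv_lhs => rw [← hg]
        rw [Finset.image_image, ← Perm.coe_mul, ← map_mul]
        simp }
  have hHS : H ≤ S := by
    intro h hh
    show O.image (φ h) = O
    -- `φ h` normalizes the image of the point stabilizer in `T`
    have hnorm : ∀ g ∈ H, ∀ a ∈ H0 ω₁, φ g * a * (φ g)⁻¹ ∈ H0 ω₁ := by
      intro g hg a ha
      obtain ⟨t, ht, rfl⟩ := Subgroup.mem_map.1 ha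
      refine Subgroup.mem_map.2 ⟨⟨g * t * g⁻¹, Subgroup.Normal.conj_mem inferInstance _ t.2 g⟩, ?_, ?_⟩
      · show (g * (t : G) * g⁻¹) • ω₁ = ω₁
        have ht' : (t : G) • ω₁ = ω₁ := ht
        rw [mul_smul, mul_smul, inv_smul_eq_iff.2 (mem_stabilizer_iff.1 hg).symm, ht']
        exact hg
      · rw [← hφ, ← hφ, map_mul, map_mul, map_inv]
    -- the images of `O` are orbits, so they meet only when equal
    obtain ⟨z, hz1, hz2⟩ : ∃ z, z ∈ O.image (φ h) ∧ z ∈ O := by
      by_contra hno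
      have hd : Disjoint (O.image (φ h)) O :=
        Finset.disjoint_left.2 fun z h1 h2 => hno ⟨z, h1, h2⟩
      have := Finset.card_le_univ (O.image (φ h) ∪ O)
      rw [Finset.card_union_of_disjoint hd, Finset.card_image_of_injective _ (φ h).injective,
        Fintype.card_fin] at this
      omega
    obtain ⟨y, hy, rfl⟩ := Finset.mem_image.1 hz1
    obtain ⟨a, ha, rfl⟩ := (Finset.mem_filter.1 hy).2
    obtain ⟨b, hb, hbe⟩ := (Finset.mem_filter.1 hz2).2
    refine Finset.eq_of_subset_of_card_le (fun u hu => ?_)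
      (by rw [Finset.card_image_of_injective _ (φ h).injective])
    obtain ⟨v, hv, rfl⟩ := Finset.mem_image.1 hu
    obtain ⟨d, hd, rfl⟩ := (Finset.mem_filter.1 hv).2
    refine Finset.mem_filter.2 ⟨Finset.mem_univ _, φ h * (d * a⁻¹) * (φ h)⁻¹ * b,
      mul_mem (hnorm h hh _ (mul_mem hd (inv_mem ha))) hb, ?_⟩
    simp [Perm.mul_apply, hbe]
  have hO2 : 2 ≤ O.card := by omega
  have hSne : S ≠ ⊤ := by
    intro htop
    obtain ⟨b, hb⟩ : ∃ b, b ∉ O := by
      by_contra h
      exact hall (Finset.eq_univ_iff_forall.2 fun y => by by_contra hy; exact h ⟨y, hy⟩)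
    obtain ⟨a, ha, a', ha', haa⟩ := Finset.one_lt_card.1 hO2
    have hab : a ≠ b := fun h => hb (h ▸ ha)
    obtain ⟨t, ht⟩ := hlift (swap a b * swap a a') (by
      rw [map_mul, Perm.sign_swap hab, Perm.sign_swap haa]; decide)
    have h1 : O.image (φ t) = O := (htop ▸ Subgroup.mem_top (t : G) : (t : G) ∈ S)
    refine hb (h1 ▸ Finset.mem_image.2 ⟨a', ha', ?_⟩)
    rw [hφ, ht, Perm.mul_apply, swap_apply_right, swap_apply_left]
  have hSH : S = H :=
    ((IsPreprimitive.isCoatom_stabilizer_of_isPreprimitive (G := G) ω₁).le_iff.1 hHS).resolve_left hSne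
  -- the points correspond to the sets of size `|O|`
  have hn : Nat.card Ω = m.choose O.card := by
    choose f hf using fun ω => exists_smul_eq T ω₁ ω
    let F : Ω → {s : Finset (Fin m) // s.card = O.card} := fun ω =>
      ⟨O.image (ψ (f ω)), Finset.card_image_of_injective _ (ψ (f ω)).injective⟩
    have key : ∀ s t : T, s • ω₁ = t • ω₁ ↔ O.image (ψ s) = O.image (ψ t) := by
      intro s t
      have e1 : s • ω₁ = t • ω₁ ↔ ((t⁻¹ * s : T) : G) ∈ H := by
        rw [hH, mem_stabilizer_iff, ← Subgroup.smul_def, mul_smul, inv_smul_eq_iff]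
      rw [e1, ← hSH]
      show O.image (φ ((t⁻¹ * s : T) : G)) = O ↔ _
      rw [hφ, map_mul, Perm.coe_mul, ← Finset.image_image]
      constructor
      · intro h
        conv_rhs => rw [← h]
        rw [Finset.image_image, ← Perm.coe_mul, ← map_mul, mul_inv_cancel, map_one, Perm.coe_one,
          Finset.image_id]
      · intro h
        rw [h, Finset.image_image, ← Perm.coe_mul, ← map_mul, inv_mul_cancel, map_one, Perm.coe_one,
          Finset.image_id]
    have hF : Function.Bijective F := by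
      refine ⟨fun u v huv => ?_, fun s => ?_⟩
      · have := (key (f u) (f v)).2 (congrArg Subtype.val huv)
        rwa [hf, hf] at this
      · obtain ⟨σ, hσ, hσO⟩ := exists_even_image_eq hO2 s.2.symm
        obtain ⟨t, rfl⟩ := hlift σ hσ
        refine ⟨t • ω₁, Subtype.ext ?_⟩
        show O.image (ψ (f (t • ω₁))) = s
        rw [← hσO]
        exact (key _ _).1 (hf _)
    rw [Nat.card_eq_of_bijective F hF, Nat.card_eq_fintype_card, Fintype.card_finset_len,
      Fintype.card_fin]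
  set k := m - O.card with hk
  rw [← Nat.choose_symm hOm.le, ← hk] at hn
  obtain ⟨q, hq, hkq, hqd⟩ := NT.SylvesterSchur.exists_prime_lt_dvd_choose
    (n := m) (k := k) (by omega) (by omega)
  have hkr : k < r := hkq.trans_le (hmax q hq (hn ▸ hqd))
  have hmod : m % r < k := mod_lt_of_dvd_choose hr (hn ▸ hrd)
  have hj : 0 < m / r := Nat.div_pos (by omega) hr.pos
  have hmr := Nat.div_add_mod m r
  obtain ⟨σ, ho, hs⟩ := exists_orderOf_eq_support_card m (m / r) r hr hj
    (Nat.div_mul_le_self m r)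
  have hσ : Perm.sign σ = 1 := by
    by_cases h2 : r = 2
    · subst h2
      refine sign_eq_one_of_two ho ?_
      have hk1 : k = 1 := by omega
      rw [hk1, Nat.choose_one_right] at hn
      rw [hs]
      by_contra h4
      have hq3 := Nat.minFac_prime (n := m / 2) (by omega)
      have hd : (m / 2).minFac ∣ m := (Nat.minFac_dvd _).trans (Nat.div_dvd_of_dvd (by omega))
      have := hmax _ hq3 (hn ▸ hd)
      have e2 : (m / 2).minFac = 2 := by have := hq3.two_le; omega
      have h2d : 2 ∣ m / 2 := by have := Nat.minFac_dvd (m / 2); rwa [e2] at this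
      omega
    · exact sign_eq_one_of_odd (by rw [ho]; exact hr.odd_of_ne_two h2)
  refine hder σ ω₁ hσ ho fun ρ hρ => ?_
  have hτ : (ρ * σ * ρ⁻¹) ^ r = 1 := by rw [conj_pow, ← ho, pow_orderOf_eq_one]; simp
  have h := card_modEq_filter_fixed hτ (hcompl _ (hOinv _ hρ))
  have hle : (Oᶜ.filter fun x => (ρ * σ * ρ⁻¹) x = x).card ≤ m % r := by
    refine (Finset.card_le_card (t := (ρ * σ * ρ⁻¹).supportᶜ) fun x hx => ?_).trans ?_
    · exact Finset.mem_compl.2 (Perm.notMem_support.2 (Finset.mem_filter.1 hx).2)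
    · rw [Finset.card_compl, Perm.card_support_conj, hs, Fintype.card_fin, mul_comm]
      omega
  rw [Finset.card_compl, Fintype.card_fin, ← hk] at h
  have := Nat.ModEq.eq_of_lt_of_lt h (hle.trans_lt (hmod.trans hkr)) hkr
  omega

end Cfsg.Agent.AltDerange
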